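import Mathlib
import Cfsg.Agent.H461.PQ.Arith
import Cfsg.Agent.H967.FaTw

/-!
# S4981, ORD-T: field automorphisms of `²E₆(q)` and `³D₄(q)` centralising a Sylow `p`-subgroup
-/

set_option autoImplicit false

namespace Cfsg.Agent.H461.PQ

open Subgroup Cfsg Cfsg.Lie Cfsg.Agent.H54.PQ Cfsg.Agent.H967.CopMat Cfsg.Agent.H967.CopRow Cfsg.Agent.H967.CopChev
  Cfsg.Agent.H967.CopTw Cfsg.Agent.H967.CopSz Cfsg.Agent.H967.CopFix Cfsg.Agent.H967.CopD4 Cfsg.Agent.H967.FaTw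

/-- the group over the fixed field has the right order: the automorphism centralises a Sylow subgroup -/
theorem centSyl_of_fixed {p : ℕ} [Fact p.Prime] {ι : Type*} [Fintype ι] [DecidableEq ι] {F : Type*} [Field F]
    [Finite F] {G : Subgroup (GL ι F)} (hG : Stab G) (σ : F ≃+* F) {G₀ : Subgroup (GL ι ↥(Fx σ))}
    (h : G₀.map (Matrix.GeneralLinearGroup.map (Fx σ).subtype) ≤ G)
    (hc : (Nat.card ↥G).factorization p = (Nat.card ↥G₀).factorization p) :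
    CentSyl p (Subgroup.zpowers (fieldAut hG σ)) := by
  let f₀ : ↥G₀ →* ↥G :=
    { toFun := fun g => ⟨Matrix.GeneralLinearGroup.map (Fx σ).subtype g.1, h ⟨g.1, g.2, rfl⟩⟩
      map_one' := Subtype.ext (map_one _)
      map_mul' := fun a b => Subtype.ext (map_mul _ _ _) }
  have hf : Function.Injective f₀ := fun a b hab =>
    Subtype.ext (map_injective (Fx σ).subtype (congrArg Subtype.val hab))
  exact centSyl_of_card' f₀ hf hc (fieldAut hG σ) fun x => Subtype.ext (map_fixed σ x.1)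

/-- the characteristic -/
theorem not_dvd_of_cast {p : ℕ} (hp : p.Prime) {K : Type*} [Field K] {r a : ℕ} [CharP K r] (hr : r.Prime)
    (hpK : (p : K) ≠ 0) : ¬ p ∣ r ^ a := by
  intro h
  have h1 : p = r := (Nat.prime_dvd_prime_iff_eq hp hr).1 (hp.dvd_of_dvd_pow h)
  subst h1
  exact hpK (CharP.cast_eq_zero K p)

theorem cent_te6 {p q : ℕ} [Fact p.Prime] (hq : q.Prime) (hq3 : 3 < q) (hpq : p ≠ q)
    {K : Type} [Field K] [Fintype K] {q₁ : ℕ} (hq₁ : IsPrimePow q₁) (hK : Fintype.card K = q₁ ^ 2)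
    (hpK : (p : K) ≠ 0) {σ : K ≃+* K} (hσ : ∃ k : ℕ, orderOf σ = q ^ k)
    (hord : ¬ q ∣ orderOf ((Nat.card ↥(Fx σ) : ℕ) : ZMod p)) :
    CentSyl p (Subgroup.zpowers (fieldAut (stab_e6 (K := K) q₁) σ)) := by
  have hp : p.Prime := Fact.out
  obtain ⟨r, a, hr, ha, rfl⟩ := (isPrimePow_nat_iff _).1 hq₁
  obtain ⟨k, hk⟩ := hσ
  have : Fintype ↥(Fx σ) := Fintype.ofFinite _
  have hK' : Fintype.card K = r ^ (2 * a) := by rw [hK, ← pow_mul, mul_comm]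
  have hc : CharP K r := charP_of_card hr hK'
  have hno : Odd (orderOf σ) := by rw [hk]; exact (hq.odd_of_ne_two (by omega)).pow
  have hE : r ^ (a * 2) = Nat.card ↥(Fx σ) ^ orderOf σ := by
    rw [← card_Fx, Nat.card_eq_fintype_card, hK', mul_comm]
  obtain ⟨a₀, j, h0, h1, h2, h3⟩ := exists_exp_two hr (by omega) hno hE
  have h2' : Nat.card ↥(Fx σ) = r ^ (2 * a₀) := by rw [h2, ← pow_mul, mul_comm]
  have hpr : ¬ p ∣ r ^ a₀ := not_dvd_of_cast hp hr hpK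
  have hq0 : 1 < r ^ a₀ := Nat.one_lt_pow h0 hr.one_lt
  rw [h2] at hord
  have hd : ¬ q ∣ orderOf ((r ^ a₀ : ℕ) : ZMod p) :=
    not_dvd_orderOf hq (fun h => absurd (Nat.le_of_dvd (by norm_num) h) (by omega)) hord
  refine centSyl_of_fixed (stab_e6 _) σ (G₀ := twistedE6 ↥(Fx σ) (r ^ a)) (words_e6 (Fx σ).subtype _) ?_
  rw [twistedE6_congr (E := ↥(Fx σ)) (e := r ^ a) (pow_eq h2' h3)]
  have hcard := S1066.result (K := ↥(Fx σ)) (hr.isPrimePow.pow h0) (by rw [← Nat.card_eq_fintype_card, h2])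
  have hcard' := S1066.result hq₁ hK
  have hra : r ^ a = (r ^ a₀) ^ q ^ k := by rw [← pow_mul, ← hk, ← h1]
  have hra' : Nat.gcd 3 ((r ^ a₀) ^ q ^ k + 1) * Nat.card ↥(twistedE6 K (r ^ a)) = nE ((r ^ a₀) ^ q ^ k) := by
    rw [← hra]; exact hcard'
  exact fact_e6 hp hq hq3 hpq hq0 hpr hd k hra' hcard

/-- The orders of the groups `³D₄` over a subfield. -/
theorem card_eq_d4 {E : Type*} [Field E] [Fintype E] {r a₀ n : ℕ} (hn3 : ¬ 3 ∣ n)
    (hk : Nat.card E = (r ^ a₀) ^ 3) :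
    Nat.card ↥(twistedD4 E (r ^ (a₀ * n))) = Nat.card ↥(twistedD4 E (r ^ a₀)) := by
  have hk' : Nat.card E = r ^ (3 * a₀) := by rw [hk, ← pow_mul]; congr 1; ring
  have hn3' : n % 3 = 1 ∨ n % 3 = 2 := by omega
  rcases hn3' with h3 | h3
  · have h4 : a₀ * n = a₀ + (n / 3) * (3 * a₀) := by
      conv_lhs => rw [← Nat.div_add_mod n 3, h3]
      ring
    rw [← twistedD4_congr (E := E) (e := r ^ (a₀ * n)) (pow_eq hk' h4)]
  · refine Nat.dvd_antisymm ?_ (card_dvd_d4 hn3 hk)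
    have h4 : a₀ * n = 2 * a₀ + (n / 3) * (3 * a₀) := by
      conv_lhs => rw [← Nat.div_add_mod n 3, h3]
      ring
    have h5 : ∀ t : E, t ^ r ^ (a₀ * n) = t ^ ((r ^ a₀) ^ 2) := fun t => by
      rw [pow_eq hk' h4 t, ← pow_mul, mul_comm a₀ 2]
    have h7 : ∀ t : E, t ^ (r ^ a₀) ^ 4 = t ^ (r ^ a₀) := fun t => by
      rw [← pow_mul]
      exact pow_eq hk' (by ring : a₀ * 4 = a₀ + 1 * (3 * a₀)) t
    have h8 : ∀ t : E, t ^ ((r ^ (a₀ * n)) ^ 2) = t ^ (r ^ a₀) := fun t => by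
      rw [pow_two (r ^ (a₀ * n)), pow_mul, h5, h5, ← pow_mul, ← pow_add]
      exact h7 t
    have h9 : ∀ t : E, t ^ (r ^ (a₀ * n)) = t → t ^ (r ^ a₀) = t := fun t ht => by
      rw [← h8, pow_two, pow_mul, ht, ht]
    have hle := le_comap (fun t => (h8 t).symm) (fun t => (h5 t).symm) h9
    refine dvd_trans (dvd_of_eq ?_) (Subgroup.card_dvd_of_le hle)
    exact Nat.card_congr
      ((twistedD4 E (r ^ (a₀ * n))).equivMapOfInjective _ (MulAut.conj (symm.P E)).injective).toEquiv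

theorem cent_td4 {p q : ℕ} [Fact p.Prime] (hq : q.Prime) (hq3 : 3 < q) (hpq : p ≠ q)
    {K : Type} [Field K] [Fintype K] {q₁ : ℕ} (hq₁ : IsPrimePow q₁) (hK : Fintype.card K = q₁ ^ 3)
    (hpK : (p : K) ≠ 0) {σ : K ≃+* K} (hσ : ∃ k : ℕ, orderOf σ = q ^ k)
    (hord : ¬ q ∣ orderOf ((Nat.card ↥(Fx σ) : ℕ) : ZMod p)) :
    CentSyl p (Subgroup.zpowers (fieldAut (stab_d4 (K := K) q₁) σ)) := by
  have hp : p.Prime := Fact.out
  obtain ⟨r, a, hr, ha, rfl⟩ := (isPrimePow_nat_iff _).1 hq₁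
  obtain ⟨k, hk⟩ := hσ
  have : Fintype ↥(Fx σ) := Fintype.ofFinite _
  have hK' : Fintype.card K = r ^ (3 * a) := by rw [hK, ← pow_mul, mul_comm]
  have hc : CharP K r := charP_of_card hr hK'
  have hn3 : ¬ 3 ∣ orderOf σ := by
    rw [hk]
    intro h
    have := (Nat.prime_dvd_prime_iff_eq Nat.prime_three hq).1 (Nat.prime_three.dvd_of_dvd_pow h)
    omega
  have hE : r ^ (a * 3) = Nat.card ↥(Fx σ) ^ orderOf σ := by
    rw [← card_Fx, Nat.card_eq_fintype_card, hK', mul_comm]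
  obtain ⟨a₀, h0, h1, h2⟩ := exists_exp_three hr (by omega) hn3 hE
  have hpr : ¬ p ∣ r ^ a₀ := not_dvd_of_cast hp hr hpK
  have hq0 : 1 < r ^ a₀ := Nat.one_lt_pow h0 hr.one_lt
  rw [h2] at hord
  have hd : ¬ q ∣ orderOf ((r ^ a₀ : ℕ) : ZMod p) :=
    not_dvd_orderOf hq (fun h => absurd (Nat.le_of_dvd (by norm_num) h) (by omega)) hord
  refine centSyl_of_fixed (stab_d4 _) σ (G₀ := twistedD4 ↥(Fx σ) (r ^ a)) (words_d4 (Fx σ).subtype _) ?_
  have hcard := S1067.result (K := ↥(Fx σ)) (hr.isPrimePow.pow h0) (by rw [← Nat.card_eq_fintype_card, h2])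
  have hcard' := S1067.result hq₁ hK
  have hra : r ^ a = (r ^ a₀) ^ q ^ k := by rw [← pow_mul, ← hk, ← h1]
  have e1 : Nat.card ↥(twistedD4 K (r ^ a)) = nD ((r ^ a₀) ^ q ^ k) := by rw [hcard', ← hra]; rfl
  have e2 : Nat.card ↥(twistedD4 ↥(Fx σ) (r ^ a)) = nD (r ^ a₀) := by
    rw [h1, card_eq_d4 hn3 h2, hcard]; rfl
  rw [e1, e2]
  exact fact_d4 hp hq hpq hq0 hpr hd k

end Cfsg.Agent.H461.PQ
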